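import Groth.Agent.QCoh.Ab.Cech
import Mathlib.LinearAlgebra.Finsupp.LinearCombination
import Mathlib.Data.Fintype.Card

/-!
# A chain projection on tuples killing long tuples, homotopic to the identity
-/

set_option autoImplicit false

universe u

open Groth.Agent.QCoh.Ab

noncomputable section

namespace Groth.Agent.CechFin

variable {ι : Type u}

/-- chains of tuples -/
abbrev Ch (ι : Type u) (p : ℕ) : Type u := (Fin p → ι) →₀ ℤ

/-- a tuple as a chain -/
def one {p : ℕ} (σ : Fin p → ι) : Ch ι p := Finsupp.single σ 1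

theorem map_delta {A B : Type*} [AddCommGroup A] [AddCommGroup B] (L : A →ₗ[ℤ] B) {p : ℕ} (f : (Fin p → ι) → A)
    (σ : Fin (p + 1) → ι) : L (delta f σ) = delta (fun τ => L (f τ)) σ := by
  simp [delta, map_sum]

theorem delta_congr {A : Type*} [AddCommGroup A] {p : ℕ} {f g : (Fin p → ι) → A} (σ : Fin (p + 1) → ι)
    (h : ∀ a : Fin (p + 1), f (fun b => σ (a.succAbove b)) = g (fun b => σ (a.succAbove b))) :
    delta f σ = delta g σ :=
  Finset.sum_congr rfl fun a _ => by rw [h a]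

theorem delta_mem {A : Type*} [AddCommGroup A] {p : ℕ} {f : (Fin p → ι) → A} (σ : Fin (p + 1) → ι)
    (S : Submodule ℤ A) (h : ∀ a : Fin (p + 1), f (fun b => σ (a.succAbove b)) ∈ S) : delta f σ ∈ S :=
  Submodule.sum_mem _ fun a _ => S.smul_mem _ (h a)

/-- linear extension -/
def lin {A : Type*} [AddCommGroup A] {p : ℕ} (g : (Fin p → ι) → A) : Ch ι p →ₗ[ℤ] A :=
  Finsupp.linearCombination ℤ g

@[simp] theorem lin_one {A : Type*} [AddCommGroup A] {p : ℕ} (g : (Fin p → ι) → A) (σ : Fin p → ι) :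
    lin g (one σ) = g σ := by
  simp [lin, one]

/-- chains supported on a set of tuples -/
def supp {p : ℕ} (s : Set (Fin p → ι)) : Submodule ℤ (Ch ι p) := Submodule.span ℤ (one '' s)

theorem one_mem {p : ℕ} {s : Set (Fin p → ι)} {σ : Fin p → ι} (h : σ ∈ s) : one σ ∈ supp s :=
  Submodule.subset_span ⟨σ, h, rfl⟩

theorem eq_of_mem_supp {A : Type*} [AddCommGroup A] {p : ℕ} {s : Set (Fin p → ι)} (L M : Ch ι p →ₗ[ℤ] A)
    (h : ∀ σ ∈ s, L (one σ) = M (one σ)) {z : Ch ι p} (hz : z ∈ supp s) : L z = M z :=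
  LinearMap.eqOn_span (f := L) (g := M) (by rintro _ ⟨σ, hσ, rfl⟩; exact h σ hσ) hz

theorem map_mem_supp {p q : ℕ} {s : Set (Fin p → ι)} (L : Ch ι p →ₗ[ℤ] Ch ι q) (S : Submodule ℤ (Ch ι q))
    (h : ∀ σ ∈ s, L (one σ) ∈ S) {z : Ch ι p} (hz : z ∈ supp s) : L z ∈ S := by
  have : supp s ≤ S.comap L := Submodule.span_le.2 (by rintro _ ⟨σ, hσ, rfl⟩; exact h σ hσ)
  exact this hz

theorem supp_mono {p : ℕ} {s t : Set (Fin p → ι)} (h : s ⊆ t) : supp s ≤ supp t :=
  Submodule.span_mono (Set.image_mono h)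

/-- the boundary -/
def bd {p : ℕ} : Ch ι (p + 1) →ₗ[ℤ] Ch ι p := lin fun σ => delta one σ

/-- prepending an index -/
def cone {p : ℕ} (i : ι) : Ch ι p →ₗ[ℤ] Ch ι (p + 1) := lin fun τ => one (Fin.cons i τ)

theorem bd_cone {p : ℕ} (i : ι) (z : Ch ι (p + 1)) : bd (cone i z) = z - cone i (bd z) := by
  have h : bd ∘ₗ cone i = LinearMap.id - cone i ∘ₗ bd (ι := ι) (p := p) := by
    refine Finsupp.lhom_ext fun σ n => ?_
    rw [← Finsupp.smul_single_one, map_zsmul, map_zsmul]
    congr 1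
    show bd (cone i (one σ)) = one σ - cone i (bd (one σ))
    simp only [cone, bd, lin_one, map_delta]
    rw [delta_cons]
  exact LinearMap.congr_fun h z

variable [LinearOrder ι]

open Classical in
/-- prepending an index not yet present -/
def cone' {p : ℕ} (i : ι) : Ch ι p →ₗ[ℤ] Ch ι (p + 1) :=
  lin fun τ => if i ∈ Set.range τ then 0 else one (Fin.cons i τ)

theorem cone'_one_of_mem {p : ℕ} {i : ι} {τ : Fin p → ι} (h : i ∈ Set.range τ) : cone' i (one τ) = 0 := by
  rw [cone', lin_one, if_pos h]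

theorem cone'_one_of_notMem {p : ℕ} {i : ι} {τ : Fin p → ι} (h : i ∉ Set.range τ) :
    cone' i (one τ) = one (Fin.cons i τ) := by
  rw [cone', lin_one, if_neg h]

/-- strictly increasing tuples with entries among those of `σ` -/
def good {p q : ℕ} (σ : Fin q → ι) : Set (Fin p → ι) := {τ | Set.range τ ⊆ Set.range σ ∧ StrictMono τ}

/-- the least entry -/
def mn {p : ℕ} (σ : Fin (p + 1) → ι) : ι :=
  (Finset.univ.image σ).min' (Finset.univ_nonempty.image σ)

theorem mn_mem {p : ℕ} (σ : Fin (p + 1) → ι) : mn σ ∈ Set.range σ := by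
  obtain ⟨a, -, ha⟩ := Finset.mem_image.1 ((Finset.univ.image σ).min'_mem (Finset.univ_nonempty.image σ))
  exact ⟨a, ha⟩

theorem mn_le {p : ℕ} (σ : Fin (p + 1) → ι) {x : ι} (hx : x ∈ Set.range σ) : mn σ ≤ x := by
  obtain ⟨a, rfl⟩ := hx
  exact Finset.min'_le _ _ (Finset.mem_image_of_mem σ (Finset.mem_univ a))

theorem cone'_mem {p q : ℕ} (σ : Fin (q + 1) → ι) {z : Ch ι p} (hz : z ∈ supp (good σ)) :
    cone' (mn σ) z ∈ supp (good (p := p + 1) σ) := by
  refine map_mem_supp _ _ (fun τ hτ => ?_) hz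
  by_cases h : mn σ ∈ Set.range τ
  · rw [cone'_one_of_mem h]; exact Submodule.zero_mem _
  · rw [cone'_one_of_notMem h]
    refine one_mem ⟨?_, ?_⟩
    · rintro _ ⟨a, rfl⟩
      refine Fin.cases ?_ (fun a => ?_) a
      · exact mn_mem σ
      · exact hτ.1 ⟨a, rfl⟩
    · intro a b hab
      obtain ⟨b, rfl⟩ := Fin.exists_succ_eq.2 (Fin.ne_zero_of_lt hab)
      induction a using Fin.cases with
      | zero =>
        simp only [Fin.cons_zero, Fin.cons_succ]
        exact lt_of_le_of_ne (mn_le σ (hτ.1 ⟨b, rfl⟩)) fun e => h ⟨b, e.symm⟩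
      | succ a =>
        simp only [Fin.cons_succ]
        exact hτ.2 (Fin.succ_lt_succ_iff.1 hab)

theorem bd_cone'_zero (i : ι) (z : Ch ι 0) : bd (cone' i z) = z := by
  have h : bd ∘ₗ cone' i = (LinearMap.id : Ch ι 0 →ₗ[ℤ] Ch ι 0) := by
    refine Finsupp.lhom_ext fun σ n => ?_
    rw [← Finsupp.smul_single_one, map_zsmul, map_zsmul]
    congr 1
    show bd (cone' i (one σ)) = one σ
    rw [cone'_one_of_notMem (by rintro ⟨a, -⟩; exact a.elim0), bd, lin_one, delta, Fin.sum_univ_one]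
    simp only [Fin.val_zero, pow_zero, one_smul]
    congr 1
  exact LinearMap.congr_fun h z

theorem bd_cone' {p q : ℕ} (σ : Fin (q + 1) → ι) {z : Ch ι (p + 1)} (hz : z ∈ supp (good σ)) :
    bd (cone' (mn σ) z) = z - cone' (mn σ) (bd z) := by
  refine eq_of_mem_supp (bd ∘ₗ cone' (mn σ)) (LinearMap.id - cone' (mn σ) ∘ₗ bd) (fun τ hτ => ?_) hz
  show bd (cone' (mn σ) (one τ)) = one τ - cone' (mn σ) (bd (one τ))
  by_cases h : mn σ ∈ Set.range τ
  · obtain ⟨a, ha⟩ := h
    have h0 : τ 0 = mn σ := le_antisymm (ha ▸ hτ.2.monotone (Fin.zero_le a)) (mn_le σ (hτ.1 ⟨0, rfl⟩))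
    obtain ⟨τ', rfl⟩ : ∃ τ', τ = Fin.cons (mn σ) τ' := ⟨Fin.tail τ, by rw [← h0, Fin.cons_self_tail]⟩
    have hn : mn σ ∉ Set.range τ' := fun ⟨b, hb⟩ => by
      have := hτ.2 (Fin.succ_pos b)
      simp only [Fin.cons_zero, Fin.cons_succ, hb] at this
      exact lt_irrefl _ this
    rw [cone'_one_of_mem ⟨0, Fin.cons_zero _ _⟩, map_zero]
    simp only [bd, lin_one]
    cases p with
    | zero =>
      rw [show delta one (Fin.cons (mn σ) τ') = one τ' from (Fin.sum_univ_one _).trans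
        ((one_smul ℤ _).trans (congrArg one (funext fun b => b.elim0)))]
      rw [cone'_one_of_notMem hn, sub_self]
    | succ p =>
      rw [delta_cons, map_sub, cone'_one_of_notMem hn, map_delta]
      rw [show delta (fun ρ => cone' (mn σ) (one (Fin.cons (mn σ) ρ))) τ' = 0 from
        Finset.sum_eq_zero fun a _ => by
          simp only [cone'_one_of_mem (τ := Fin.cons (mn σ) _) ⟨0, Fin.cons_zero _ _⟩, smul_zero], sub_zero, sub_self]
  · rw [cone'_one_of_notMem h]
    simp only [bd, lin_one]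
    rw [delta_cons, map_delta]
    congr 1
    exact delta_congr _ fun a => (cone'_one_of_notMem fun ⟨b, hb⟩ => h ⟨_, hb⟩).symm

/-- the projection -/
def pr : ∀ p : ℕ, (Fin p → ι) → Ch ι p
  | 0, σ => one σ
  | p + 1, σ => cone' (mn σ) (delta (pr p) σ)

theorem delta_pr_mem {p : ℕ} (σ : Fin (p + 1) → ι)
    (h : ∀ τ : Fin p → ι, pr p τ ∈ supp (good τ)) : delta (pr p) σ ∈ supp (good (p := p) σ) :=
  delta_mem _ _ fun a => supp_mono
    (fun τ hτ => ⟨hτ.1.trans (Set.range_comp_subset_range _ σ), hτ.2⟩ :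
      good (fun b => σ (a.succAbove b)) ⊆ good (p := p) σ) (h _)

theorem pr_mem : ∀ (p : ℕ) (σ : Fin p → ι), pr p σ ∈ supp (good (p := p) σ)
  | 0, σ => one_mem ⟨subset_rfl, fun a => a.elim0⟩
  | p + 1, σ => cone'_mem σ (delta_pr_mem σ (pr_mem p))

theorem bd_pr : ∀ (p : ℕ) (σ : Fin (p + 1) → ι), bd (pr (p + 1) σ) = delta (pr p) σ
  | 0, σ => bd_cone'_zero _ _
  | p + 1, σ => by
    show bd (cone' (mn σ) (delta (pr (p + 1)) σ)) = _
    rw [bd_cone' σ (delta_pr_mem σ (pr_mem _)), map_delta bd (pr (p + 1)),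
      delta_congr σ (g := delta (pr p)) fun a => bd_pr p _, delta_delta, map_zero, sub_zero]

theorem pr_eq_zero [Fintype ι] {p : ℕ} (hp : Fintype.card ι < p) (σ : Fin p → ι) : pr p σ = 0 := by
  have : good (p := p) σ = ∅ := Set.eq_empty_iff_forall_notMem.2 fun τ hτ => by
    have := Fintype.card_le_of_injective τ hτ.2.injective
    rw [Fintype.card_fin] at this
    omega
  simpa [supp, this] using pr_mem p σ

/-- the homotopy -/
def ht : ∀ p : ℕ, (Fin p → ι) → Ch ι (p + 1)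
  | 0, _ => 0
  | p + 1, σ => cone (σ 0) (one σ - pr (p + 1) σ - delta (ht p) σ)

theorem bd_ht : ∀ (p : ℕ) (σ : Fin (p + 1) → ι),
    bd (ht (p + 1) σ) = one σ - pr (p + 1) σ - delta (ht p) σ
  | p, σ => by
    show bd (cone (σ 0) (one σ - pr (p + 1) σ - delta (ht p) σ)) = _
    rw [bd_cone]
    have : bd (one σ - pr (p + 1) σ - delta (ht p) σ) = (0 : Ch ι p) := by
      rw [map_sub, map_sub, bd_pr, map_delta bd (ht p)]
      simp only [bd, lin_one]
      cases p with
      | zero =>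
        rw [delta_congr σ (f := fun τ => lin (fun σ => delta one σ) (ht 0 τ)) (g := fun _ => 0)
          fun a => map_zero _, show delta (fun _ : Fin 0 → ι => (0 : Ch ι 0)) σ = 0 by simp [delta]]
        simp [pr, delta]
      | succ p =>
        rw [delta_congr σ (f := fun τ => lin (fun σ => delta one σ) (ht (p + 1) τ))
          (g := fun τ => one τ - pr (p + 1) τ - delta (ht p) τ) fun a => bd_ht p _, delta_sub, delta_sub]
        simp only [delta_delta, sub_zero, sub_self]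
    rw [this, map_zero, sub_zero]

/-- tuples with entries among those of `σ` -/
def within {p q : ℕ} (σ : Fin q → ι) : Set (Fin p → ι) := {τ | Set.range τ ⊆ Set.range σ}

theorem ht_mem : ∀ (p : ℕ) (σ : Fin p → ι), ht p σ ∈ supp (within (p := p + 1) σ)
  | 0, _ => Submodule.zero_mem _
  | p + 1, σ => by
    refine map_mem_supp _ _ (s := within (p := p + 1) σ) (fun τ hτ => ?_) (Submodule.sub_mem _ (Submodule.sub_mem _
      (one_mem (subset_rfl : Set.range σ ⊆ _)) (supp_mono (fun τ hτ => hτ.1) (pr_mem _ σ)))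
      (delta_mem _ _ fun a => supp_mono (fun τ hτ => Set.Subset.trans hτ (Set.range_comp_subset_range _ σ))
        (ht_mem p _)))
    rw [cone, lin_one]
    refine one_mem ?_
    rintro _ ⟨a, rfl⟩
    refine Fin.cases ?_ (fun a => ?_) a
    · exact ⟨0, rfl⟩
    · exact hτ ⟨a, rfl⟩

end Groth.Agent.CechFin
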