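import Groth.Agent.CechFin.Comb
import Groth.Agent.QCoh.Ab.CechBridge
import Mathlib.Data.Fintype.Order
import Mathlib.Order.Basic
import Mathlib.Algebra.Category.Grp.Zero

/-!
# Vanishing of Čech cohomology above the size of a finite cover
-/

set_option autoImplicit false
set_option linter.style.haveILetI false

universe u

open CategoryTheory CategoryTheory.Limits TopologicalSpace Opposite
open Groth.Agent.QCoh.Ab

noncomputable section

namespace Groth.Agent.CechFin

variable {X : TopCat.{u}} {ι : Type u} (P : TopCat.Presheaf AddCommGrpCat.{u} X) (U : ι → Opens X)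

theorem range_le {p q : ℕ} {σ : Fin p → ι} {τ : Fin q → ι} (h : Set.range τ ⊆ Set.range σ) {W : Opens X}
    (hW : Le U σ W) : Le U τ W := fun a => by
  obtain ⟨b, hb⟩ := h ⟨a, rfl⟩
  exact hb ▸ hW b

variable [LinearOrder ι] [Fintype ι]

theorem exists_primitive {p : ℕ} (hp : Fintype.card ι < p + 2) (c : Cochain P U (p + 2)) (hc : IsNatural c)
    (hd : d c = 0) : ∃ b : Cochain P U (p + 1), IsNatural b ∧ d b = c := by
  refine ⟨fun τ W => lin (extend c W.1) (ht (p + 1) τ), ?_, ?_⟩
  · intro σ W W' h h' i
    refine eq_of_mem_supp ((P.map i.op).hom.toIntLinearMap ∘ₗ lin (extend c W)) (lin (extend c W'))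
      (fun τ hτ => ?_) (ht_mem (p + 1) σ)
    show P.map i.op (lin (extend c W) (one τ)) = lin (extend c W') (one τ)
    rw [lin_one, lin_one, extend, extend, dif_pos (range_le U hτ h), dif_pos (range_le U hτ h')]
    exact hc τ W W' _ _ i
  · funext σ W
    rw [d_eq_delta]
    refine (delta_congr σ (g := fun τ => lin (extend c W.1) (ht (p + 1) τ)) fun a => ?_).trans ?_
    · rw [extend, dif_pos (show Le U (fun b => σ (a.succAbove b)) W.1 from fun b => W.2 (a.succAbove b))]
    rw [← map_delta]
    have e : delta (ht (p + 1)) σ = one σ - bd (ht (p + 2) σ) := by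
      rw [bd_ht (p + 1) σ, pr_eq_zero hp, sub_zero, sub_sub_cancel]
    rw [e, map_sub, lin_one, extend, dif_pos W.2]
    have h0 : lin (extend c W.1) (bd (ht (p + 2) σ)) = 0 := by
      refine eq_of_mem_supp (lin (extend c W.1) ∘ₗ bd) 0 (fun τ hτ => ?_) (ht_mem (p + 2) σ)
      show lin (extend c W.1) (bd (one τ)) = 0
      rw [bd, lin_one, map_delta, delta_congr τ (f := fun τ => lin (extend c W.1) (one τ)) (g := extend c W.1)
        fun a => lin_one _ _, ← extend_d c W.1 (range_le U hτ W.2), hd, extend]
      split_ifs <;> rfl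
    rw [h0, sub_zero]

omit [LinearOrder ι] in
theorem isZero_homology (q : ℕ) (hq : Fintype.card ι ≤ q) :
    IsZero (((cechComplexFunctor U).obj P).homology q) := by
  refine IsZero.of_iso ?_ (HomologicalComplex.homologyMapIso (cechIso P U) q).symm
  cases q with
  | zero =>
    haveI : IsEmpty ι := Fintype.card_eq_zero_iff.1 (Nat.le_zero.1 hq)
    rw [← HomologicalComplex.exactAt_iff_isZero_homology]
    refine ShortComplex.exact_of_isZero_X₂ _ ?_
    refine @AddCommGrpCat.isZero_of_subsingleton _ ?_
    exact ⟨fun a b => Subtype.ext (funext fun σ => isEmptyElim (σ 0))⟩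
  | succ p =>
    letI : LinearOrder ι := LinearOrder.lift' (Fintype.equivFin ι) (Fintype.equivFin ι).injective
    rw [← HomologicalComplex.exactAt_iff_isZero_homology,
      HomologicalComplex.exactAt_iff' _ p (p + 1) (p + 2) (by simp) (by simp),
      ShortComplex.ab_exact_iff]
    simp only [HomologicalComplex.sc', HomologicalComplex.shortComplexFunctor'_obj_f,
      HomologicalComplex.shortComplexFunctor'_obj_g, natCx_d]
    intro x hx
    obtain ⟨b, hb, hbd⟩ := exists_primitive P U (p := p) (by omega) x.1 x.2 (congrArg Subtype.val hx)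
    exact ⟨⟨b, hb⟩, Subtype.ext hbd⟩

end Groth.Agent.CechFin
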